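import Groth.Agent.CAlgOdd.Acyclicity
import Groth.Agent.CAlgOdd.AuslanderBuchsbaum
import Groth.Agent.HSLib.Samuel
import Mathlib.RingTheory.Ideal.AssociatedPrime.Finiteness

/-!
# Acyclicity of complexes of deep modules with finite length cohomology
-/

set_option autoImplicit false
set_option linter.unusedSectionVars false
universe u

open CategoryTheory CategoryTheory.Limits IsLocalRing
open Groth.Agent.CAlgOdd.Acyclicity

namespace Groth.Agent.AcycLib

variable {R : Type u} [CommRing R] [IsLocalRing R] [IsNoetherianRing R]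

/-- Free modules are as deep as the ring. -/
theorem depthGE_free (g : ℕ) (hg : (g : ℕ∞) ≤ LocCoh.depth R R) (X : ModuleCat.{u} R)
    [Module.Free R X] [Module.Finite R X] : DepthGE g X := by
  rcases subsingleton_or_nontrivial X with h | h
  · exact depthGE_of_isZero g (ModuleCat.isZero_of_subsingleton X)
  rw [depthGE_iff]
  let b := Module.finBasis R X
  obtain ⟨k, hk⟩ : ∃ k, Module.finrank R X = k + 1 := Nat.exists_eq_succ_of_ne_zero fun h0 => by
    haveI : IsEmpty (Fin (Module.finrank R X)) := by rw [h0]; exact Fin.isEmpty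
    exact not_subsingleton X b.repr.toEquiv.subsingleton
  rw [Hensel.depth_congr (b.reindex (finCongr hk)).equivFun, FlatLoc6.depth_pi R k]
  exact hg

/-- A finite-length module of positive depth vanishes. -/
theorem isZero_of_finiteLength (H : ModuleCat.{u} R) (hfl : IsFiniteLength R H)
    (hd : DepthGE 1 H) : IsZero H := by
  have hN : IsNoetherian R H := (isFiniteLength_iff_isNoetherian_isArtinian.mp hfl).1
  refine @ModuleCat.isZero_of_subsingleton _ _ H ?_
  by_contra hs
  have := not_subsingleton_iff_nontrivial.1 hs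
  obtain ⟨q, hq⟩ := associatedPrimes.nonempty R H
  obtain ⟨hqp, x, hx⟩ := isAssociatedPrime_iff.mp hq
  have hmax : q.IsMaximal := HSLib.isMaximal_of_isFiniteLength hfl (p := ⟨q, hqp⟩) (by
    rw [Module.mem_support_iff']
    refine ⟨x, fun r hr h0 => hr ?_⟩
    show r ∈ q
    rw [hx]
    exact Submodule.mem_colon_singleton.2 ((Submodule.mem_bot R).2 h0))
  have hqm := IsLocalRing.eq_maximalIdeal hmax
  let f : (R ⧸ maximalIdeal R) →ₗ[R] H :=
    Submodule.liftQ (maximalIdeal R) (LinearMap.toSpanSingleton R H x) fun a ha => by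
      rw [← hqm, hx] at ha
      exact LinearMap.mem_ker.2 ((Submodule.mem_bot R).1 (Submodule.mem_colon_singleton.1 ha))
  have hsub := hd 0 one_pos
  have : Subsingleton (ModuleCat.of R (R ⧸ maximalIdeal R) ⟶ H) :=
    Abelian.Ext.addEquiv₀.symm.subsingleton
  have hx0 : x = 0 := by
    have h := congrArg (fun φ => φ.hom (Submodule.Quotient.mk 1))
      (Subsingleton.elim (ModuleCat.ofHom f) 0)
    simp only [ModuleCat.hom_ofHom, ModuleCat.hom_zero, LinearMap.zero_apply] at h
    rw [← one_smul R x]
    exact h
  have h1 : (1 : R) ∈ q := by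
    rw [hx, hx0]
    exact Submodule.mem_colon_singleton.2 ((Submodule.mem_bot R).2 (smul_zero _))
  exact hqp.ne_top ((Ideal.eq_top_iff_one q).2 h1)

variable (K : CochainComplex (ModuleCat.{u} R) ℕ)

/-- The coboundaries in degree `i`. -/
abbrev bnd (i : ℕ) : ModuleCat.{u} R := ModuleCat.of R (LinearMap.range (K.d (i - 1) i).hom)

theorem prev_eq (i : ℕ) : (ComplexShape.up ℕ).prev i = i - 1 := by
  rcases i with _ | i
  · exact CochainComplex.prev_nat_zero
  · exact CochainComplex.prev_nat_succ i

/-- The sequence `0 → B_i → X_i → B_{i+1} → 0`. -/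
noncomputable abbrev bndSeq (i : ℕ) : ShortComplex (ModuleCat.{u} R) :=
  ShortComplex.mk (X₁ := bnd K i) (X₂ := K.X i) (X₃ := bnd K (i + 1))
    (ModuleCat.ofHom (LinearMap.range (K.d (i - 1) i).hom).subtype)
    (ModuleCat.ofHom (K.d (i + 1 - 1) (i + 1)).hom.rangeRestrict)
    (by
      ext ⟨y, x, rfl⟩
      exact congrArg (fun φ => φ.hom x) (K.d_comp_d (i - 1) i (i + 1)))

theorem bndSeq_shortExact (i : ℕ) (h : K.ExactAt i) : (bndSeq K i).ShortExact where
  exact := by
    rw [ShortComplex.moduleCat_exact_iff]
    intro x hx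
    rw [HomologicalComplex.exactAt_iff' K (i - 1) i (i + 1) (prev_eq i) (by simp),
      ShortComplex.moduleCat_exact_iff] at h
    obtain ⟨y, hy⟩ := h x (congrArg Subtype.val hx)
    exact ⟨⟨_, y, rfl⟩, hy⟩
  mono_f := (ModuleCat.mono_iff_injective _).mpr Subtype.val_injective
  epi_g := (ModuleCat.epi_iff_surjective _).mpr (LinearMap.surjective_rangeRestrict _)

/-- Homology below the depth has positive depth. -/
theorem depthGE_one_homology (i : ℕ) (hX : DepthGE 1 (K.X i)) (hB : DepthGE 2 (bnd K i)) :
    DepthGE 1 (K.homology i) := by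
  intro t ht
  obtain rfl : t = 0 := by omega
  let inj : K.cycles i →ₗ[R] K.X i := (K.iCycles i).hom
  have hinj : Function.Injective inj := (ModuleCat.mono_iff_injective _).mp inferInstance
  let T := LinearMap.range (K.toCycles (i - 1) i).hom
  have hT : T.map inj = LinearMap.range (K.d (i - 1) i).hom := by
    rw [← LinearMap.range_comp]
    exact congrArg (fun φ => LinearMap.range φ.hom) (K.toCycles_i (i - 1) i)
  let eq : LinearMap.range (K.d (i - 1) i).hom ≃ₗ[R] T :=
    (LinearEquiv.ofEq _ _ hT.symm).trans (Submodule.equivMapOfInjective inj hinj T).symm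
  let S : ShortComplex (ModuleCat.{u} R) :=
    ShortComplex.mk (X₁ := bnd K i) (X₂ := K.cycles i) (X₃ := K.homology i)
      (ModuleCat.ofHom (T.subtype ∘ₗ eq.toLinearMap)) (K.homologyπ i) (by
        ext x
        obtain ⟨y, hy⟩ := (eq x).2
        show (K.homologyπ i).hom (eq x : K.cycles i) = 0
        rw [← hy]
        exact congrArg (fun φ => φ.hom y) (K.toCycles_comp_homologyπ (i - 1) i))
  have hex : (ShortComplex.mk _ _ (K.toCycles_comp_homologyπ (i - 1) i)).Exact :=
    ShortComplex.exact_of_g_is_cokernel _ (K.homologyIsCokernel (i - 1) i (prev_eq i))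
  have hS : S.ShortExact :=
    { exact := by
        rw [ShortComplex.moduleCat_exact_iff] at hex ⊢
        intro x hx
        obtain ⟨y, hy⟩ := hex x hx
        refine ⟨eq.symm ⟨x, y, hy⟩, ?_⟩
        show (eq (eq.symm ⟨x, y, hy⟩) : K.cycles i) = x
        rw [LinearEquiv.apply_symm_apply]
      mono_f := (ModuleCat.mono_iff_injective _).mpr (Subtype.val_injective.comp eq.injective)
      epi_g := inferInstanceAs (Epi (K.homologyπ i)) }
  exact LC.ext_subsingleton_X₃ hS _ 0
    (LC.ext_zero_subsingleton_of_injective _ (K.iCycles i) (hX 0 one_pos)) (hB 1 one_lt_two)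

/-- Finite-length cohomology vanishes below the common depth. -/
theorem isZero_homology (g : ℕ) (hX : ∀ i, DepthGE g (K.X i))
    (hfl : ∀ i, IsFiniteLength R (K.homology i)) : ∀ i < g, IsZero (K.homology i) := by
  have hP : ∀ i, i ≤ g → DepthGE (g + 1 - i) (bnd K i) := by
    intro i
    induction i with
    | zero =>
      intro _
      refine depthGE_of_isZero _ ?_
      have : Subsingleton (LinearMap.range (K.d (0 - 1) 0).hom) := by
        refine subsingleton_of_forall_eq 0 ?_
        rintro ⟨_, x, rfl⟩
        apply Subtype.ext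
        show (K.d (0 - 1) 0).hom x = 0
        rw [K.shape _ _ (by simp)]
        rfl
      exact ModuleCat.isZero_of_subsingleton _
    | succ i ih =>
      intro hi t ht
      have hB := ih (by omega)
      have hz : IsZero (K.homology i) := isZero_of_finiteLength _ (hfl i)
        (depthGE_one_homology K i (fun t ht => hX i t (by omega)) fun t ht => hB t (by omega))
      exact LC.ext_subsingleton_X₃ (bndSeq_shortExact K i
        ((K.exactAt_iff_isZero_homology i).2 hz)) _ t (hX i t (by omega)) (hB (t + 1) (by omega))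
  intro i hi
  exact isZero_of_finiteLength _ (hfl i) (depthGE_one_homology K i (fun t ht => hX i t (by omega))
    fun t ht => hP i hi.le t (by omega))

end Groth.Agent.AcycLib
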